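import Cfsg.Agent.SPOR.J4.OddB
import Cfsg.Agent.SPOR.J4.Fus
import Cfsg.Agent.SPOR.J4C

/-!
A frame whose linear group is the model of `3.Aut(M22)` gives a group of Janko-four type.
-/

set_option autoImplicit false
set_option maxRecDepth 100000
set_option linter.unusedSectionVars false
set_option linter.unusedVariables false

namespace CL.J4P

open CL.K CL.CG CL.F2M CL.J4 CL.LX CL.MSS Cfsg CL.Golay CL.MAut
open CL.F24 (W GL12 Ov)

attribute [local irreducible] gcode vcode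

variable {G : Type*} [Group G]

theorem nu_of_hs {z x : G} {Q : Subgroup G} {κ : G → W}
    {ρ : Subgroup.centralizer ({z} : Set G) →* GL12} {μ : Subgroup.centralizer ({z} : Set G) →* Pm}
    (S : HS z Q κ ρ μ x) : ∃ ν : (gen gcode LG : Subgroup GL12) →* Pm, ν.range = Duad ∧
    ∀ g, ν g = 1 ↔ (g : GL12) ∈ Subgroup.zpowers J4.Z0 := by
  rw [← S.range_eq]
  have hk : ρ.rangeRestrict.ker ≤ μ.ker := fun a ha => by
    rw [MonoidHom.ker_rangeRestrict, MonoidHom.mem_ker] at ha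
    rw [MonoidHom.mem_ker, S.ker, ha]
    exact one_mem _
  let ν := ρ.rangeRestrict.liftOfSurjective ρ.rangeRestrict_surjective ⟨μ, hk⟩
  have e : ∀ a, ν (ρ.rangeRestrict a) = μ a := fun a =>
    ρ.rangeRestrict.liftOfRightInverse_comp_apply _ _ ⟨μ, hk⟩ a
  refine ⟨ν, ?_, fun g => ?_⟩
  · rw [← S.range]
    refine le_antisymm ?_ ?_
    · rintro _ ⟨g, rfl⟩
      obtain ⟨a, rfl⟩ := ρ.rangeRestrict_surjective g
      exact ⟨a, (e a).symm⟩
    · rintro _ ⟨a, rfl⟩
      exact ⟨_, e a⟩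
  · obtain ⟨a, rfl⟩ := ρ.rangeRestrict_surjective g
    rw [e, S.ker]
    rfl

theorem exists_nu : ∃ ν : (gen gcode LG : Subgroup GL12) →* Pm, ν.range = Duad ∧
    ∀ g, ν g = 1 ↔ (g : GL12) ∈ Subgroup.zpowers J4.Z0 := by
  obtain ⟨κ, ρ, h | h⟩ := J4G.raw.exists_hs
  exacts [nu_of_hs h, nu_of_hs h]

theorem Z0_ne : J4.Z0 ≠ 1 := fun e => by
  have := J4.code_Z0
  rw [e, F24.C12.map_one] at this
  exact absurd this (by decide +kernel)

theorem exists_code {c : ℕ} (hc : c ∈ LG) : ∃ g ∈ (gen gcode LG : Subgroup GL12), gcode g = c :=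
  mem_gen top_LG c hc

theorem exists_comm : ∃ a ∈ (gen gcode LG : Subgroup GL12), ∃ b ∈ (gen gcode LG : Subgroup GL12),
    a * J4.Z0 = J4.Z0 * a ∧ b * J4.Z0 = J4.Z0 * b ∧ (a * b * a⁻¹ * b⁻¹) ^ 8 = J4.Z0 := by
  obtain ⟨a, ha, ea⟩ := exists_code (c := J4.cC) (by simp [LG])
  obtain ⟨b, hb, eb⟩ := exists_code (c := cE) (by simp [LG])
  have ia := F24.code_inv ea (b := powC F24.mm F24.c1 J4.cC 10) (by decide +kernel)
  have ib := F24.code_inv eb (b := powC F24.mm F24.c1 cE 3) (by decide +kernel)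
  refine ⟨a, ha, b, hb, F24.C12.inj ?_, F24.C12.inj ?_, F24.C12.inj ?_⟩
  · rw [J4.code_mul ea J4.code_Z0, J4.code_mul J4.code_Z0 ea]; decide +kernel
  · rw [J4.code_mul eb J4.code_Z0, J4.code_mul J4.code_Z0 eb]; decide +kernel
  · rw [J4.code_pow (J4.code_mul (J4.code_mul (J4.code_mul ea eb) ia) ib), J4.code_Z0]
    decide +kernel

theorem exists_inv : ∃ a ∈ (gen gcode LG : Subgroup GL12), a * J4.Z0 * a⁻¹ = J4.Z0⁻¹ := by
  obtain ⟨a, ha, ea⟩ := exists_code (c := cF) (by simp [LG])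
  refine ⟨a, ha, mul_inv_eq_iff_eq_mul.2 (F24.C12.inj ?_)⟩
  rw [J4.code_mul ea J4.code_Z0, J4.code_mul J4.code_Z0_inv ea]; decide +kernel

theorem type_of_frame [Finite G] {z : G} {κ : G → W}
    {ρ : Subgroup.centralizer ({z} : Set G) →* GL12} (F : J4.Frame z (O2C z) κ ρ)
    (hr : ρ.range = gen gcode LG) : IsOfJankoFourType G := by
  have mz : ∀ {c d : G}, c ∈ Subgroup.centralizer ({d} : Set G) ↔ c * d = d * c :=
    Subgroup.mem_centralizer_singleton_iff
  have : Fact (Nat.Prime 3) := ⟨Nat.prime_three⟩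
  obtain ⟨ν, n1, n2⟩ := exists_nu
  obtain ⟨Z, hZ, eZ⟩ := exists_code (c := cX) (by simp [LG])
  obtain rfl : Z = J4.Z0 := F24.C12.inj (eZ.trans J4.code_Z0.symm)
  rw [← hr] at hZ
  obtain ⟨x, hx, x3⟩ := F.exists_x hZ
  have x1 : x ≠ 1 := fun e => Z0_ne (hx.unique (e ▸ F24.ov_one))
  have ox : orderOf x = 3 := orderOf_eq_prime x3 x1
  have hl := F.lx
  have hn : ∀ γ ∈ ρ.range, γ * J4.Z0 * γ⁻¹ ∈ Subgroup.zpowers J4.Z0 := fun γ hγ => by
    rcases LG_norm (hr ▸ hγ) with e | e <;> rw [e, mul_inv_cancel_right]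
    exacts [Subgroup.mem_zpowers _, inv_mem (Subgroup.mem_zpowers _)]
  have hN : ((Subgroup.zpowers J4.Z0).comap ρ).Normal := ⟨fun n ⟨i, hi⟩ c => by
    rw [Subgroup.mem_comap, map_mul, map_mul, map_inv, ← hi, ← conj_zpow]
    exact zpow_mem (hn _ ⟨c, rfl⟩) i⟩
  have eN : (((Subgroup.zpowers J4.Z0).comap ρ).map (Subgroup.subtype _)).subgroupOf _ =
      (Subgroup.zpowers J4.Z0).comap ρ :=
    Subgroup.comap_map_eq_self_of_injective (Subgroup.subtype_injective _) _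
  have hN' : ((((Subgroup.zpowers J4.Z0).comap ρ).map (Subgroup.subtype _)).subgroupOf
    (Subgroup.centralizer {z})).Normal := eN.symm ▸ hN
  have cP : ∀ c, c ∈ Subgroup.centralizer (Subgroup.zpowers x : Set G) ↔ c * x = x * c := fun c => by
    rw [centralizer_zpowers, mz]
  refine ⟨z, Subgroup.zpowers x, orderOf_eq_prime (by rw [pow_two, hl.z_sq]) hl.z_ne,
    hl.toES.isExtraspecial, F.card, fun c hc => ?_,
    ⟨((Subgroup.zpowers J4.Z0).comap ρ).map (Subgroup.subtype _),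
      fun q hq => ⟨⟨q, (F.ov_Q hq).1⟩, ?_, rfl⟩,
      Subgroup.map_subtype_le _, (Subgroup.normal_subgroupOf_iff_le_normalizer
        (Subgroup.map_subtype_le _)).1 hN', ?_, ⟨hN', ⟨?_⟩⟩,
      Subgroup.zpowers_le.2 ⟨⟨x, hx.1⟩, ?_, rfl⟩⟩,
    by rw [Nat.card_zpowers, ox], le_antisymm (fun q hq => (mem_zpowers_of_sq hl.z_sq).2
      (F.cent_Q hx hq.1 ((cP q).1 hq.2))) (Subgroup.zpowers_le.2 ⟨hl.z_mem, (cP z).2 hx.comm.symm⟩),
    fun e => x1 ?_, Subgroup.zpowers_le.2 ?_⟩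
  · rcases hl.self_cent c (fun y hy => (hc.2 y hy).symm) with e | e <;> rw [e]
    exacts [one_mem _, hl.z_mem]
  · change ρ _ ∈ Subgroup.zpowers J4.Z0
    rw [(F.ov_Q hq).2]
    exact one_mem _
  · have e1 := ((Subgroup.zpowers J4.Z0).comap ρ).card_mul_index
    have e2 := ((Subgroup.zpowers J4.Z0).subgroupOf ρ.range).card_mul_index
    rw [Nat.card_congr (Subgroup.subgroupOfEquivOfLe ((Subgroup.zpowers_le (H := ρ.range)).2 hZ)).toEquiv,
      Nat.card_zpowers, orderOf_eq_prime J4.Z0_cube Z0_ne] at e2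
    rw [Subgroup.index_comap, F.card_H, ← e2, mul_right_comm] at e1
    rw [Subgroup.card_map_of_injective (Subgroup.subtype_injective _),
      Nat.eq_of_mul_eq_mul_right (Nat.pos_of_ne_zero Subgroup.index_ne_zero_of_finite) e1]
    exact congrArg _ F.card.symm
  · let μ := ν.comp (ρ.codRestrict _ fun a => hr.le ⟨a, rfl⟩)
    have m1 : μ.range = Duad := by
      rw [← n1]
      refine le_antisymm (by rintro _ ⟨a, rfl⟩; exact ⟨_, rfl⟩) ?_
      rintro _ ⟨⟨g, hg⟩, rfl⟩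
      obtain ⟨a, rfl⟩ := hr.ge hg
      exact ⟨a, rfl⟩
    have m2 : (Subgroup.zpowers J4.Z0).comap ρ = μ.ker := Subgroup.ext fun a =>
      (n2 (ρ.codRestrict _ (fun a => hr.le ⟨a, rfl⟩) a)).symm
    exact (QuotientGroup.quotientMulEquivOfEq (eN.trans m2)).trans
      ((QuotientGroup.quotientKerEquivRange μ).trans ((MulEquiv.subgroupCongr m1).trans duadEquiv))
  · change ρ _ ∈ Subgroup.zpowers J4.Z0
    rw [hx.2]
    exact Subgroup.mem_zpowers _
  · obtain ⟨a, ha, ea⟩ := exists_inv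
    obtain ⟨u, hu, eu⟩ := F.exists_inverting hx x3 (hr.ge ha) ea
    have uA : u ∈ Subgroup.normalizer (Subgroup.zpowers x : Set G) :=
      Subgroup.mem_normalizer_fintype (by
        rintro _ ⟨i, rfl⟩
        simp only [← conj_zpow]
        rw [eu]
        exact zpow_mem (inv_mem (Subgroup.mem_zpowers x)) i)
    have := (cP u).1 (e.le ⟨hu.1, uA⟩).2
    rw [this, mul_inv_cancel_right] at eu
    calc x = x ^ 3 * x⁻¹ * x⁻¹ := by group
      _ = 1 := by rw [x3, one_mul]; nth_rewrite 1 [← eu]; rw [mul_inv_cancel]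
  · obtain ⟨a, ha, b, hb, ea, eb, e⟩ := exists_comm
    obtain ⟨c, hc, ec⟩ := F.exists_cent hx x3 (hr.ge ha) ea
    obtain ⟨d, hd, ed⟩ := F.exists_cent hx x3 (hr.ge hb) eb
    have h1 := (((hc.mul hd).mul hc.inv).mul hd.inv).pow 8
    rw [e] at h1
    have h2 := pow_mem (Subgroup.commutator_mem_commutator
      (show c ∈ Subgroup.centralizer {z} ⊓ Subgroup.centralizer (Subgroup.zpowers x : Set G) from
        ⟨hc.1, (cP c).2 ec⟩)
      (show d ∈ Subgroup.centralizer {z} ⊓ Subgroup.centralizer (Subgroup.zpowers x : Set G) from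
        ⟨hd.1, (cP d).2 ed⟩)) 8
    rw [commutatorElement_def] at h2
    have c1 : Commute c x := ec
    have c2 : Commute d x := ed
    obtain ⟨s, hs⟩ := F.cent_eq hx h1 hx
      (((c1.mul_left c2).mul_left c1.inv_left).mul_left c2.inv_left |>.pow_left 8).eq rfl
    rw [hs] at h2
    have h3 := pow_mem h2 4
    rwa [(show Commute x (F24.zp z s) from F.zp_comm hx s).mul_pow, pow_succ x, x3, one_mul,
      show 4 = 2 * 2 from rfl, pow_mul, pow_two (F24.zp z s), F.zp_sq, one_pow, mul_one] at h3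

end CL.J4P
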