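import Cfsg.Agent.SPOR.J4P.Lin
import Cfsg.Agent.SPOR.J4P.Ch
import Cfsg.Agent.SPOR.J4P.Fin

/-!
A pentad subgroup with a large extraspecial subgroup gives a group of Janko-four type.
-/

set_option autoImplicit false
set_option maxRecDepth 100000
set_option linter.unusedSectionVars false
set_option linter.unusedVariables false

namespace CL.J4P

open CL.K CL.CG CL.F2M CL.F24 CL.J4 CL.LX CL.MSS Cfsg

attribute [local irreducible] gcode vcode

variable {G : Type*} [Group G]

theorem pre_iso {z : G} {Q : Subgroup G} {κ : G → W}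
    {ρ : Subgroup.centralizer ({z} : Set G) →* GL12} {P : W → ZMod 2} (h : Pre z Q κ ρ P)
    (hl : LX Q z) {g : GL12} (hg : g ∈ ρ.range) (w : W) : P (g • w) = P w := by
  obtain ⟨c, rfl⟩ := hg
  obtain ⟨x, hx, rfl⟩ := h.κ_surj w
  have hcz : (c : G) * z = z * c := Subgroup.mem_centralizer_singleton_iff.1 c.2
  have h1 := h.sq _ (hl.norm c hcz x hx)
  have h2 : c * x * (c : G)⁻¹ * (c * x * (c : G)⁻¹) = c * (x * x) * (c : G)⁻¹ := by group
  rw [h2, h.sq x hx, zp_comm' hcz, mul_inv_cancel_right, h.κ_conj c x hx] at h1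
  exact (zp_inj hl.z_ne h1).symm

theorem hC_of_char {z : G} (h2 : IsCharacteristicTwoType G) (zz : z * z = 1) (z1 : z ≠ 1) (c : G)
    (c1 : c * z = z * c) (c2 : ∀ q ∈ O2C z, q * c = c * q) : c ∈ O2C z := by
  have e : Subgroup.normalizer (Subgroup.zpowers z : Set G) = Subgroup.centralizer {z} := by
    refine le_antisymm (fun g hg => Subgroup.mem_centralizer_singleton_iff.2 ?_)
      (centralizer_zpowers z ▸ Subgroup.centralizer_le_normalizer _)
    rcases (mem_zpowers_of_sq zz).1 ((Subgroup.mem_normalizer_iff.1 hg z).1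
      (Subgroup.mem_zpowers z)) with e | e
    exacts [absurd (conj_eq_one_iff.1 e) z1, mul_inv_eq_iff_eq_mul.1 e]
  have h3 := h2.2 (Subgroup.zpowers z) (IsPGroup.of_card (n := 1) (by
    rw [Nat.card_zpowers, pow_one]; exact orderOf_eq_prime (by rw [pow_two, zz]) z1))
    (by rw [Ne, Subgroup.zpowers_eq_bot]; exact z1)
  rw [e] at h3
  exact ⟨⟨c, Subgroup.mem_centralizer_singleton_iff.2 c1⟩, h3 fun q hq =>
    Subtype.ext (c2 q ⟨q, hq, rfl⟩), rfl⟩

theorem QD.type [Finite G] {K L : Subgroup G} {κ : G → ℕ} {ρ : K →* GL12} {ζ : ℕ → G}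
    (h : PC K L κ ρ ζ) (D : QD L κ ρ ζ (O2C (ζ 4))) (hne : ∃ g, g * ζ 4 = ζ 4 * g ∧ g ∉ K) :
    IsOfJankoFourType G := by
  obtain ⟨lam, σ, P, k, hk, hp, hP, h1, h2, h3, h4⟩ := D.exists_chart h hne
  have H : LH k σ.range := ⟨hk, fun g hg v hv => by
    rw [sm_vdec g hv, ← hP, pre_iso hp D.lx hg, hP, vcode_vdec hv], h1, h2, h3⟩
  obtain ⟨p, e⟩ := H.main h4
  have h5 := hp.transport (DistribMulAction.toAddEquiv W p) (θ := (MulAut.conj p).toMonoidHom)
    (fun a v => by simp [mul_smul])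
  have e' : ((MulAut.conj p).toMonoidHom.comp σ).range = gen gcode LG := by
    rw [MonoidHom.range_comp, e]
  exact type_of_frame (frame_of_pre h5 D.lx D.card e'.ge) e'

end CL.J4P
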